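import Cfsg.Agent.Lib.Spor.Cos.G23Two.C100Part0

/-! A checked coset enumeration. -/

set_option autoImplicit false
set_option maxRecDepth 100000
set_option maxHeartbeats 4000000

namespace Cfsg.Agent.Spor.Cos.G23Two

theorem c100_def0 : allBlock c100.chkDef 257 512 0 = true := by decide +kernel

theorem c100_defs : ∀ i, i + 1 < c100.M → c100.chkDef i = true := by
  intro i hi
  change i + 1 < 258 at hi
  refine of_allBlock (n := 257) (size := 512) (by decide) (fun j hj => ?_) (by omega)
  have hj' : j < 1 := by omega
  interval_cases j
  · exact c100_def0

theorem c100_facts : ∀ i, c100.M ≤ i + 1 → i < c100.nF → ∃ J, c100.chkFact i J = true := by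
  exact c100.facts_of_covers (c100.covers_of_part _ _ _ c100_part0) rfl rfl

theorem c100_final0 : allBlock c100.chkFinal 5 512 0 = true := by decide +kernel

theorem c100_checks : c100.Checks where
  pos := by decide +kernel
  defs := c100_defs
  facts := c100_facts
  final := by
    intro k hk
    change k < 1 * 5 at hk
    refine of_allBlock (n := 5) (size := 512) (by decide) (fun j hj => ?_) (by omega)
    have hj' : j < 1 := by omega
    interval_cases j
    · exact c100_final0

theorem c100_derived : c100.rels.all (derivedOk c100.n c100Base) = true := by decide +kernel

end Cfsg.Agent.Spor.Cos.G23Two
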