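import Cfsg.Agent.Lib.Spor.Cos.G23Two.C180Part0

/-! A checked coset enumeration. -/

set_option autoImplicit false
set_option maxRecDepth 100000
set_option maxHeartbeats 4000000

namespace Cfsg.Agent.Spor.Cos.G23Two

theorem c180_def0 : allBlock c180.chkDef 827 512 0 = true := by decide +kernel

theorem c180_def1 : allBlock c180.chkDef 827 512 1 = true := by decide +kernel

theorem c180_defs : ∀ i, i + 1 < c180.M → c180.chkDef i = true := by
  intro i hi
  change i + 1 < 828 at hi
  refine of_allBlock (n := 827) (size := 512) (by decide) (fun j hj => ?_) (by omega)
  have hj' : j < 2 := by omega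
  interval_cases j
  · exact c180_def0
  · exact c180_def1

theorem c180_facts : ∀ i, c180.M ≤ i + 1 → i < c180.nF → ∃ J, c180.chkFact i J = true := by
  exact c180.facts_of_covers (Log.Covers.trans c180 (c180.covers_of_part _ _ _ c180_part0) (c180.covers_of_part _ _ _ c180_part1)) rfl rfl

theorem c180_final0 : allBlock c180.chkFinal 5 512 0 = true := by decide +kernel

theorem c180_checks : c180.Checks where
  pos := by decide +kernel
  defs := c180_defs
  facts := c180_facts
  final := by
    intro k hk
    change k < 1 * 5 at hk
    refine of_allBlock (n := 5) (size := 512) (by decide) (fun j hj => ?_) (by omega)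
    have hj' : j < 1 := by omega
    interval_cases j
    · exact c180_final0

theorem c180_derived : c180.rels.all (derivedOk c180.n c180Base) = true := by decide +kernel

end Cfsg.Agent.Spor.Cos.G23Two
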