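import Cfsg.Agent.Lib.Spor.Cos.G23Two.C4Part0
import Cfsg.Agent.Lib.Spor.Cos.G23Two.C4Part1

/-! A checked coset enumeration. -/

set_option autoImplicit false
set_option maxRecDepth 100000
set_option maxHeartbeats 4000000

namespace Cfsg.Agent.Spor.Cos.G23Two

theorem c4_def0 : allBlock c4.chkDef 9409 512 0 = true := by decide +kernel

theorem c4_def1 : allBlock c4.chkDef 9409 512 1 = true := by decide +kernel

theorem c4_def2 : allBlock c4.chkDef 9409 512 2 = true := by decide +kernel

theorem c4_def3 : allBlock c4.chkDef 9409 512 3 = true := by decide +kernel

theorem c4_def4 : allBlock c4.chkDef 9409 512 4 = true := by decide +kernel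

theorem c4_def5 : allBlock c4.chkDef 9409 512 5 = true := by decide +kernel

theorem c4_def6 : allBlock c4.chkDef 9409 512 6 = true := by decide +kernel

theorem c4_def7 : allBlock c4.chkDef 9409 512 7 = true := by decide +kernel

theorem c4_def8 : allBlock c4.chkDef 9409 512 8 = true := by decide +kernel

theorem c4_def9 : allBlock c4.chkDef 9409 512 9 = true := by decide +kernel

theorem c4_def10 : allBlock c4.chkDef 9409 512 10 = true := by decide +kernel

theorem c4_def11 : allBlock c4.chkDef 9409 512 11 = true := by decide +kernel

theorem c4_def12 : allBlock c4.chkDef 9409 512 12 = true := by decide +kernel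

theorem c4_def13 : allBlock c4.chkDef 9409 512 13 = true := by decide +kernel

theorem c4_def14 : allBlock c4.chkDef 9409 512 14 = true := by decide +kernel

theorem c4_def15 : allBlock c4.chkDef 9409 512 15 = true := by decide +kernel

theorem c4_def16 : allBlock c4.chkDef 9409 512 16 = true := by decide +kernel

theorem c4_def17 : allBlock c4.chkDef 9409 512 17 = true := by decide +kernel

theorem c4_def18 : allBlock c4.chkDef 9409 512 18 = true := by decide +kernel

theorem c4_defs : ∀ i, i + 1 < c4.M → c4.chkDef i = true := by
  intro i hi
  change i + 1 < 9410 at hi
  refine of_allBlock (n := 9409) (size := 512) (by decide) (fun j hj => ?_) (by omega)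
  have hj' : j < 19 := by omega
  interval_cases j
  · exact c4_def0
  · exact c4_def1
  · exact c4_def2
  · exact c4_def3
  · exact c4_def4
  · exact c4_def5
  · exact c4_def6
  · exact c4_def7
  · exact c4_def8
  · exact c4_def9
  · exact c4_def10
  · exact c4_def11
  · exact c4_def12
  · exact c4_def13
  · exact c4_def14
  · exact c4_def15
  · exact c4_def16
  · exact c4_def17
  · exact c4_def18

theorem c4_facts : ∀ i, c4.M ≤ i + 1 → i < c4.nF → ∃ J, c4.chkFact i J = true := by
  exact c4.facts_of_covers (Log.Covers.trans c4 (Log.Covers.trans c4 (Log.Covers.trans c4 (Log.Covers.trans c4 (c4.covers_of_part _ _ _ c4_part0) (c4.covers_of_part _ _ _ c4_part1)) (Log.Covers.trans c4 (c4.covers_of_part _ _ _ c4_part2) (Log.Covers.trans c4 (c4.covers_of_part _ _ _ c4_part3) (c4.covers_of_part _ _ _ c4_part4)))) (Log.Covers.trans c4 (Log.Covers.trans c4 (c4.covers_of_part _ _ _ c4_part5) (c4.covers_of_part _ _ _ c4_part6)) (Log.Covers.trans c4 (c4.covers_of_part _ _ _ c4_part7) (Log.Covers.trans c4 (c4.covers_of_part _ _ _ c4_part8) (c4.covers_of_part _ _ _ c4_part9))))) (Log.Covers.trans c4 (Log.Covers.trans c4 (Log.Covers.trans c4 (c4.covers_of_part _ _ _ c4_part10) (c4.covers_of_part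 _ _ _ c4_part11)) (Log.Covers.trans c4 (c4.covers_of_part _ _ _ c4_part12) (Log.Covers.trans c4 (c4.covers_of_part _ _ _ c4_part13) (c4.covers_of_part _ _ _ c4_part14)))) (Log.Covers.trans c4 (Log.Covers.trans c4 (c4.covers_of_part _ _ _ c4_part15) (Log.Covers.trans c4 (c4.covers_of_part _ _ _ c4_part16) (c4.covers_of_part _ _ _ c4_part17))) (Log.Covers.trans c4 (c4.covers_of_part _ _ _ c4_part18) (Log.Covers.trans c4 (c4.covers_of_part _ _ _ c4_part19) (c4.covers_of_part _ _ _ c4_part20)))))) rfl rfl

theorem c4_final0 : allBlock c4.chkFinal 36855 512 0 = true := by decide +kernel

theorem c4_final1 : allBlock c4.chkFinal 36855 512 1 = true := by decide +kernel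

theorem c4_final2 : allBlock c4.chkFinal 36855 512 2 = true := by decide +kernel

theorem c4_final3 : allBlock c4.chkFinal 36855 512 3 = true := by decide +kernel

theorem c4_final4 : allBlock c4.chkFinal 36855 512 4 = true := by decide +kernel

theorem c4_final5 : allBlock c4.chkFinal 36855 512 5 = true := by decide +kernel

theorem c4_final6 : allBlock c4.chkFinal 36855 512 6 = true := by decide +kernel

theorem c4_final7 : allBlock c4.chkFinal 36855 512 7 = true := by decide +kernel

theorem c4_final8 : allBlock c4.chkFinal 36855 512 8 = true := by decide +kernel

theorem c4_final9 : allBlock c4.chkFinal 36855 512 9 = true := by decide +kernel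

theorem c4_final10 : allBlock c4.chkFinal 36855 512 10 = true := by decide +kernel

theorem c4_final11 : allBlock c4.chkFinal 36855 512 11 = true := by decide +kernel

theorem c4_final12 : allBlock c4.chkFinal 36855 512 12 = true := by decide +kernel

theorem c4_final13 : allBlock c4.chkFinal 36855 512 13 = true := by decide +kernel

theorem c4_final14 : allBlock c4.chkFinal 36855 512 14 = true := by decide +kernel

theorem c4_final15 : allBlock c4.chkFinal 36855 512 15 = true := by decide +kernel

theorem c4_final16 : allBlock c4.chkFinal 36855 512 16 = true := by decide +kernel

theorem c4_final17 : allBlock c4.chkFinal 36855 512 17 = true := by decide +kernel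

theorem c4_final18 : allBlock c4.chkFinal 36855 512 18 = true := by decide +kernel

theorem c4_final19 : allBlock c4.chkFinal 36855 512 19 = true := by decide +kernel

theorem c4_final20 : allBlock c4.chkFinal 36855 512 20 = true := by decide +kernel

theorem c4_final21 : allBlock c4.chkFinal 36855 512 21 = true := by decide +kernel

theorem c4_final22 : allBlock c4.chkFinal 36855 512 22 = true := by decide +kernel

theorem c4_final23 : allBlock c4.chkFinal 36855 512 23 = true := by decide +kernel

theorem c4_final24 : allBlock c4.chkFinal 36855 512 24 = true := by decide +kernel

theorem c4_final25 : allBlock c4.chkFinal 36855 512 25 = true := by decide +kernel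

theorem c4_final26 : allBlock c4.chkFinal 36855 512 26 = true := by decide +kernel

theorem c4_final27 : allBlock c4.chkFinal 36855 512 27 = true := by decide +kernel

theorem c4_final28 : allBlock c4.chkFinal 36855 512 28 = true := by decide +kernel

theorem c4_final29 : allBlock c4.chkFinal 36855 512 29 = true := by decide +kernel

theorem c4_final30 : allBlock c4.chkFinal 36855 512 30 = true := by decide +kernel

theorem c4_final31 : allBlock c4.chkFinal 36855 512 31 = true := by decide +kernel

theorem c4_final32 : allBlock c4.chkFinal 36855 512 32 = true := by decide +kernel

theorem c4_final33 : allBlock c4.chkFinal 36855 512 33 = true := by decide +kernel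

theorem c4_final34 : allBlock c4.chkFinal 36855 512 34 = true := by decide +kernel

theorem c4_final35 : allBlock c4.chkFinal 36855 512 35 = true := by decide +kernel

theorem c4_final36 : allBlock c4.chkFinal 36855 512 36 = true := by decide +kernel

theorem c4_final37 : allBlock c4.chkFinal 36855 512 37 = true := by decide +kernel

theorem c4_final38 : allBlock c4.chkFinal 36855 512 38 = true := by decide +kernel

theorem c4_final39 : allBlock c4.chkFinal 36855 512 39 = true := by decide +kernel

theorem c4_final40 : allBlock c4.chkFinal 36855 512 40 = true := by decide +kernel

theorem c4_final41 : allBlock c4.chkFinal 36855 512 41 = true := by decide +kernel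

theorem c4_final42 : allBlock c4.chkFinal 36855 512 42 = true := by decide +kernel

theorem c4_final43 : allBlock c4.chkFinal 36855 512 43 = true := by decide +kernel

theorem c4_final44 : allBlock c4.chkFinal 36855 512 44 = true := by decide +kernel

theorem c4_final45 : allBlock c4.chkFinal 36855 512 45 = true := by decide +kernel

theorem c4_final46 : allBlock c4.chkFinal 36855 512 46 = true := by decide +kernel

theorem c4_final47 : allBlock c4.chkFinal 36855 512 47 = true := by decide +kernel

theorem c4_final48 : allBlock c4.chkFinal 36855 512 48 = true := by decide +kernel

theorem c4_final49 : allBlock c4.chkFinal 36855 512 49 = true := by decide +kernel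

theorem c4_final50 : allBlock c4.chkFinal 36855 512 50 = true := by decide +kernel

theorem c4_final51 : allBlock c4.chkFinal 36855 512 51 = true := by decide +kernel

theorem c4_final52 : allBlock c4.chkFinal 36855 512 52 = true := by decide +kernel

theorem c4_final53 : allBlock c4.chkFinal 36855 512 53 = true := by decide +kernel

theorem c4_final54 : allBlock c4.chkFinal 36855 512 54 = true := by decide +kernel

theorem c4_final55 : allBlock c4.chkFinal 36855 512 55 = true := by decide +kernel

theorem c4_final56 : allBlock c4.chkFinal 36855 512 56 = true := by decide +kernel

theorem c4_final57 : allBlock c4.chkFinal 36855 512 57 = true := by decide +kernel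

theorem c4_final58 : allBlock c4.chkFinal 36855 512 58 = true := by decide +kernel

theorem c4_final59 : allBlock c4.chkFinal 36855 512 59 = true := by decide +kernel

theorem c4_final60 : allBlock c4.chkFinal 36855 512 60 = true := by decide +kernel

theorem c4_final61 : allBlock c4.chkFinal 36855 512 61 = true := by decide +kernel

theorem c4_final62 : allBlock c4.chkFinal 36855 512 62 = true := by decide +kernel

theorem c4_final63 : allBlock c4.chkFinal 36855 512 63 = true := by decide +kernel

theorem c4_final64 : allBlock c4.chkFinal 36855 512 64 = true := by decide +kernel

theorem c4_final65 : allBlock c4.chkFinal 36855 512 65 = true := by decide +kernel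

theorem c4_final66 : allBlock c4.chkFinal 36855 512 66 = true := by decide +kernel

theorem c4_final67 : allBlock c4.chkFinal 36855 512 67 = true := by decide +kernel

theorem c4_final68 : allBlock c4.chkFinal 36855 512 68 = true := by decide +kernel

theorem c4_final69 : allBlock c4.chkFinal 36855 512 69 = true := by decide +kernel

theorem c4_final70 : allBlock c4.chkFinal 36855 512 70 = true := by decide +kernel

theorem c4_final71 : allBlock c4.chkFinal 36855 512 71 = true := by decide +kernel

theorem c4_checks : c4.Checks where
  pos := by decide +kernel
  defs := c4_defs
  facts := c4_facts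
  final := by
    intro k hk
    change k < 7371 * 5 at hk
    refine of_allBlock (n := 36855) (size := 512) (by decide) (fun j hj => ?_) (by omega)
    have hj' : j < 72 := by omega
    interval_cases j
    · exact c4_final0
    · exact c4_final1
    · exact c4_final2
    · exact c4_final3
    · exact c4_final4
    · exact c4_final5
    · exact c4_final6
    · exact c4_final7
    · exact c4_final8
    · exact c4_final9
    · exact c4_final10
    · exact c4_final11
    · exact c4_final12
    · exact c4_final13
    · exact c4_final14
    · exact c4_final15
    · exact c4_final16
    · exact c4_final17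
    · exact c4_final18
    · exact c4_final19
    · exact c4_final20
    · exact c4_final21
    · exact c4_final22
    · exact c4_final23
    · exact c4_final24
    · exact c4_final25
    · exact c4_final26
    · exact c4_final27
    · exact c4_final28
    · exact c4_final29
    · exact c4_final30
    · exact c4_final31
    · exact c4_final32
    · exact c4_final33
    · exact c4_final34
    · exact c4_final35
    · exact c4_final36
    · exact c4_final37
    · exact c4_final38
    · exact c4_final39
    · exact c4_final40
    · exact c4_final41
    · exact c4_final42
    · exact c4_final43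
    · exact c4_final44
    · exact c4_final45
    · exact c4_final46
    · exact c4_final47
    · exact c4_final48
    · exact c4_final49
    · exact c4_final50
    · exact c4_final51
    · exact c4_final52
    · exact c4_final53
    · exact c4_final54
    · exact c4_final55
    · exact c4_final56
    · exact c4_final57
    · exact c4_final58
    · exact c4_final59
    · exact c4_final60
    · exact c4_final61
    · exact c4_final62
    · exact c4_final63
    · exact c4_final64
    · exact c4_final65
    · exact c4_final66
    · exact c4_final67
    · exact c4_final68
    · exact c4_final69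
    · exact c4_final70
    · exact c4_final71

theorem c4_derived : c4.rels.all (derivedOk c4.n c4Base) = true := by decide +kernel

end Cfsg.Agent.Spor.Cos.G23Two
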