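import Cfsg.Agent.Lib.Spor.Cos.G23Two.C96Part0

/-! A checked coset enumeration. -/

set_option autoImplicit false
set_option maxRecDepth 100000
set_option maxHeartbeats 4000000

namespace Cfsg.Agent.Spor.Cos.G23Two

theorem c96_def0 : allBlock c96.chkDef 621 512 0 = true := by decide +kernel

theorem c96_def1 : allBlock c96.chkDef 621 512 1 = true := by decide +kernel

theorem c96_defs : ∀ i, i + 1 < c96.M → c96.chkDef i = true := by
  intro i hi
  change i + 1 < 622 at hi
  refine of_allBlock (n := 621) (size := 512) (by decide) (fun j hj => ?_) (by omega)
  have hj' : j < 2 := by omega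
  interval_cases j
  · exact c96_def0
  · exact c96_def1

theorem c96_facts : ∀ i, c96.M ≤ i + 1 → i < c96.nF → ∃ J, c96.chkFact i J = true := by
  exact c96.facts_of_covers (c96.covers_of_part _ _ _ c96_part0) rfl rfl

theorem c96_final0 : allBlock c96.chkFinal 5 512 0 = true := by decide +kernel

theorem c96_checks : c96.Checks where
  pos := by decide +kernel
  defs := c96_defs
  facts := c96_facts
  final := by
    intro k hk
    change k < 1 * 5 at hk
    refine of_allBlock (n := 5) (size := 512) (by decide) (fun j hj => ?_) (by omega)
    have hj' : j < 1 := by omega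
    interval_cases j
    · exact c96_final0

theorem c96_derived : c96.rels.all (derivedOk c96.n c96Base) = true := by decide +kernel

end Cfsg.Agent.Spor.Cos.G23Two
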