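import Cfsg.Agent.Lib.Spor.Cos.G23Two.H0Part0

/-! A checked coset enumeration. -/

set_option autoImplicit false
set_option maxRecDepth 100000
set_option maxHeartbeats 4000000

namespace Cfsg.Agent.Spor.Cos.G23Two

theorem h0_def0 : allBlock h0.chkDef 575 512 0 = true := by decide +kernel

theorem h0_def1 : allBlock h0.chkDef 575 512 1 = true := by decide +kernel

theorem h0_defs : ∀ i, i + 1 < h0.M → h0.chkDef i = true := by
  intro i hi
  change i + 1 < 576 at hi
  refine of_allBlock (n := 575) (size := 512) (by decide) (fun j hj => ?_) (by omega)
  have hj' : j < 2 := by omega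
  interval_cases j
  · exact h0_def0
  · exact h0_def1

theorem h0_facts : ∀ i, h0.M ≤ i + 1 → i < h0.nF → ∃ J, h0.chkFact i J = true := by
  exact h0.facts_of_covers (h0.covers_of_part _ _ _ h0_part0) rfl rfl

theorem h0_final0 : allBlock h0.chkFinal 2304 512 0 = true := by decide +kernel

theorem h0_final1 : allBlock h0.chkFinal 2304 512 1 = true := by decide +kernel

theorem h0_final2 : allBlock h0.chkFinal 2304 512 2 = true := by decide +kernel

theorem h0_final3 : allBlock h0.chkFinal 2304 512 3 = true := by decide +kernel

theorem h0_final4 : allBlock h0.chkFinal 2304 512 4 = true := by decide +kernel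

theorem h0_checks : h0.Checks where
  pos := by decide +kernel
  defs := h0_defs
  facts := h0_facts
  final := by
    intro k hk
    change k < 576 * 4 at hk
    refine of_allBlock (n := 2304) (size := 512) (by decide) (fun j hj => ?_) (by omega)
    have hj' : j < 5 := by omega
    interval_cases j
    · exact h0_final0
    · exact h0_final1
    · exact h0_final2
    · exact h0_final3
    · exact h0_final4

theorem h0_derived : h0.rels.all (derivedOk h0.n h0Base) = true := by decide +kernel

end Cfsg.Agent.Spor.Cos.G23Two
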