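import Cfsg.Agent.Lib.Spor.Cos.G23Two.C115Part0

/-! A checked coset enumeration. -/

set_option autoImplicit false
set_option maxRecDepth 100000
set_option maxHeartbeats 4000000

namespace Cfsg.Agent.Spor.Cos.G23Two

theorem c115_def0 : allBlock c115.chkDef 431 512 0 = true := by decide +kernel

theorem c115_defs : ∀ i, i + 1 < c115.M → c115.chkDef i = true := by
  intro i hi
  change i + 1 < 432 at hi
  refine of_allBlock (n := 431) (size := 512) (by decide) (fun j hj => ?_) (by omega)
  have hj' : j < 1 := by omega
  interval_cases j
  · exact c115_def0

theorem c115_facts : ∀ i, c115.M ≤ i + 1 → i < c115.nF → ∃ J, c115.chkFact i J = true := by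
  exact c115.facts_of_covers (c115.covers_of_part _ _ _ c115_part0) rfl rfl

theorem c115_final0 : allBlock c115.chkFinal 5 512 0 = true := by decide +kernel

theorem c115_checks : c115.Checks where
  pos := by decide +kernel
  defs := c115_defs
  facts := c115_facts
  final := by
    intro k hk
    change k < 1 * 5 at hk
    refine of_allBlock (n := 5) (size := 512) (by decide) (fun j hj => ?_) (by omega)
    have hj' : j < 1 := by omega
    interval_cases j
    · exact c115_final0

theorem c115_derived : c115.rels.all (derivedOk c115.n c115Base) = true := by decide +kernel

end Cfsg.Agent.Spor.Cos.G23Two
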